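import Mathlib

/-! Semilinear endomorphisms of vector spaces for powers of Frobenius and their inverses. -/

universe u v

open Polynomial

namespace LangQLib

variable {K : Type u} [Field K] {V : Type v} [AddCommGroup V] [Module K V]

section Stable

variable [FiniteDimensional K V] {σ : K → K} (hσs : Function.Surjective σ) (hσ0 : ∀ a, σ a = 0 → a = 0)
  (T : V →+ V) (hT : ∀ (a : K) (v : V), T (a • v) = σ a • T v)

include hσs hT in
lemma exists_range (n : ℕ) : ∃ W : Submodule K V, (W : Set V) = Set.range (T^[n]) := by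
  induction n with
  | zero => exact ⟨⊤, by simp⟩
  | succ n ih =>
    obtain ⟨W, hW⟩ := ih
    refine ⟨{ carrier := T '' (W : Set V), zero_mem' := ⟨0, W.zero_mem, map_zero T⟩, add_mem' := ?_,
              smul_mem' := ?_ }, ?_⟩
    · rintro _ _ ⟨a, ha, rfl⟩ ⟨b, hb, rfl⟩
      exact ⟨a + b, W.add_mem ha hb, map_add T a b⟩
    · rintro c _ ⟨a, ha, rfl⟩
      obtain ⟨b, rfl⟩ := hσs c
      exact ⟨b • a, W.smul_mem b ha, hT b a⟩
    · show T '' (W : Set V) = _
      rw [hW, ← Set.range_comp, Function.iterate_succ']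

include hσs hσ0 hT in
lemma injOn_of_map_eq {W : Submodule K V} (h : T '' (W : Set V) = (W : Set V)) :
    Set.InjOn T (W : Set V) := by
  classical
  have hmem : ∀ x ∈ W, T x ∈ W := fun x hx => (Set.ext_iff.1 h (T x)).1 ⟨x, hx, rfl⟩
  let b := Module.finBasis K W
  let f : Fin (Module.finrank K W) → W := fun i => ⟨T (b i), hmem _ (b i).2⟩
  have hexp : ∀ x : W, T (x : V) = ∑ i, σ (b.repr x i) • T (b i : V) := fun x => by
    conv_lhs => rw [← b.sum_repr x, Submodule.coe_sum, map_sum]
    simp [hT]
  have hsp : ⊤ ≤ Submodule.span K (Set.range f) := by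
    rintro ⟨y, hy⟩ -
    obtain ⟨x, hx, rfl⟩ := (Set.ext_iff.1 h y).2 hy
    have : (⟨T x, hy⟩ : W) = ∑ i, σ (b.repr ⟨x, hx⟩ i) • f i := Subtype.ext (by simpa [f] using hexp ⟨x, hx⟩)
    rw [this]
    exact Submodule.sum_mem _ fun i _ => Submodule.smul_mem _ _ (Submodule.subset_span ⟨i, rfl⟩)
  have hli : LinearIndependent K f := linearIndependent_of_top_le_span_of_card_eq_finrank hsp (Fintype.card_fin _)
  intro x hx y hy hxy
  have hs : ∑ i, σ (b.repr ⟨x - y, W.sub_mem hx hy⟩ i) • f i = 0 :=
    Subtype.ext (by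
      simp only [f, Submodule.coe_sum, Submodule.coe_smul, Submodule.coe_zero]
      rw [← hexp ⟨x - y, W.sub_mem hx hy⟩]
      show T (x - y) = 0
      rw [map_sub, hxy, sub_self])
  have hz : (⟨x - y, W.sub_mem hx hy⟩ : W) = 0 :=
    b.ext_elem fun i => by simpa using hσ0 _ (Fintype.linearIndependent_iff.1 hli _ hs i)
  exact sub_eq_zero.1 (congrArg Subtype.val hz)

include hσs hσ0 hT in
/-- The stable image. -/
theorem exists_stable : ∃ (W : Submodule K V) (N : ℕ),
    (∀ n, N ≤ n → (W : Set V) = Set.range (T^[n])) ∧ (∀ n, (W : Set V) ⊆ Set.range (T^[n])) ∧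
    Set.BijOn T (W : Set V) (W : Set V) := by
  classical
  choose W hW using exists_range hσs T hT
  have hanti : ∀ n, W (n + 1) ≤ W n := fun n x hx => by
    have hx' : x ∈ Set.range (T^[n + 1]) := hW (n + 1) ▸ hx
    obtain ⟨y, rfl⟩ := hx'
    show _ ∈ (W n : Set V)
    rw [hW, Function.iterate_succ_apply]
    exact ⟨T y, rfl⟩
  have hex : ∃ N, W (N + 1) = W N := by
    by_contra h
    push Not at h
    have hd : ∀ n, Module.finrank K (W n) + n ≤ Module.finrank K (W 0) := by
      intro n
      induction n with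
      | zero => simp
      | succ n ih =>
        have := Submodule.finrank_lt_finrank_of_lt (lt_of_le_of_ne (hanti n) (h n))
        omega
    have := hd (Module.finrank K (W 0) + 1)
    omega
  obtain ⟨N, hN⟩ := hex
  have hmap : ∀ n, T '' (W n : Set V) = (W (n + 1) : Set V) := fun n => by
    rw [hW, hW, ← Set.range_comp, Function.iterate_succ']
  have hst : ∀ n, N ≤ n → W n = W N := by
    intro n hn
    induction n, hn using Nat.le_induction with
    | base => rfl
    | succ n hn ih =>
      refine SetLike.coe_injective ?_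
      rw [← hmap, ih, hmap, hN]
  refine ⟨W N, N, fun n hn => by rw [← hst n hn, hW], fun n => ?_, ?_⟩
  · rw [← hW]
    rcases le_total N n with h | h
    · rw [hst n h]
    · intro x hx
      exact antitone_nat_of_succ_le hanti h hx
  · have h := (hmap N).trans (by rw [hN])
    refine ⟨fun x hx => h ▸ Set.mem_image_of_mem T hx, injOn_of_map_eq hσs hσ0 T hT h, fun x hx => ?_⟩
    exact h.symm ▸ hx

end Stable

variable (p : ℕ) [hp : Fact p.Prime] [CharP K p] {ν : ℕ}

lemma one_lt_q (hν : 1 ≤ ν) : 1 < p ^ ν := Nat.one_lt_pow (by omega) hp.out.one_lt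

lemma derivative_pow_q (hν : 1 ≤ ν) (Q : K[X]) : derivative (Q ^ p ^ ν) = 0 := by
  rw [derivative_pow, Nat.cast_pow, CharP.cast_eq_zero, zero_pow (by omega), C_0, zero_mul, zero_mul]

variable [IsAlgClosed K]

lemma exists_pow_sub_self (hν : 1 ≤ ν) (a : K) : ∃ x : K, x ^ p ^ ν - x = a := by
  have hq := one_lt_q p hν
  have hd : (X ^ p ^ ν - X - C a : K[X]).degree = (p ^ ν : ℕ) := by
    have h1 : (X : K[X]).degree < (X ^ p ^ ν : K[X]).degree := by
      rw [degree_X, degree_X_pow]; exact_mod_cast hq
    have h2 : (C a : K[X]).degree < (X ^ p ^ ν - X : K[X]).degree := by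
      rw [degree_sub_eq_left_of_degree_lt h1, degree_X_pow]
      exact lt_of_le_of_lt degree_C_le (by exact_mod_cast (zero_lt_one.trans hq))
    rw [degree_sub_eq_left_of_degree_lt h2, degree_sub_eq_left_of_degree_lt h1, degree_X_pow]
  obtain ⟨x, hx⟩ := IsAlgClosed.exists_root (X ^ p ^ ν - X - C a : K[X]) (by
    rw [hd]; exact_mod_cast (zero_lt_one.trans hq).ne')
  exact ⟨x, by simpa [IsRoot, sub_eq_zero] using hx⟩

lemma fixed_scalars_finite (hν : 1 ≤ ν) : {c : K | c ^ p ^ ν = c}.Finite := by
  classical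
  have hne : (X ^ p ^ ν - X : K[X]) ≠ 0 := FiniteField.X_pow_card_sub_X_ne_zero K (one_lt_q p hν)
  exact (X ^ p ^ ν - X : K[X]).roots.toFinset.finite_toSet.subset fun c hc => by
    have hc' : c ^ p ^ ν = c := hc
    simp [mem_roots hne, IsRoot, hc']

variable [FiniteDimensional K V]

/-- A fixed vector. -/
lemma exists_fixed (hν : 1 ≤ ν) [Nontrivial V] (T : V →+ V)
    (hT : ∀ (r : K) (m : V), T (r • m) = r ^ p ^ ν • T m) (hinj : Function.Injective T) :
    ∃ w : V, w ≠ 0 ∧ T w = w := by
  classical
  have hq := one_lt_q p hν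
  set q := p ^ ν with hqdef
  have hq0 : q ≠ 0 := by omega
  obtain ⟨v, hv⟩ := exists_ne (0 : V)
  let e : ℕ → V := fun i => T^[i] v
  have he : ∀ i, T (e i) = e (i + 1) := fun i => (Function.iterate_succ_apply' T i v).symm
  have hex : ∃ m, e m ∈ Submodule.span K (e '' Set.Iio m) := by
    by_contra h
    push Not at h
    have : ∀ k, k ≤ Module.finrank K (Submodule.span K (e '' Set.Iio k)) := by
      intro k
      induction k with
      | zero => exact Nat.zero_le _
      | succ k ih =>
        have hlt : Submodule.span K (e '' Set.Iio k) < Submodule.span K (e '' Set.Iio (k + 1)) :=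
          SetLike.lt_iff_le_and_exists.2 ⟨Submodule.span_mono (Set.image_mono (Set.Iio_subset_Iio (by omega))),
            e k, Submodule.subset_span ⟨k, Set.mem_Iio.2 (by omega), rfl⟩, h k⟩
        have := Submodule.finrank_lt_finrank_of_lt hlt
        omega
    have := (this (Module.finrank K V + 1)).trans (Submodule.finrank_le _)
    omega
  have hm := Nat.find_spec hex
  have hmin : ∀ j < Nat.find hex, e j ∉ Submodule.span K (e '' Set.Iio j) := fun j hj => Nat.find_min hex hj
  generalize Nat.find hex = m at hm hmin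
  rcases m with _ | k
  · simp only [Set.Iio, Nat.not_lt_zero, Set.setOf_false, Set.image_empty, Submodule.span_empty, Submodule.mem_bot] at hm
    exact absurd hm hv
  obtain ⟨c, hc⟩ : ∃ c : ℕ → K, e (k + 1) = ∑ i ∈ Finset.range (k + 1), c i • e i := by
    rw [← Finset.coe_range, ← Finset.coe_image] at *
    obtain ⟨f, hf⟩ := Submodule.mem_span_image_finset_iff_exists_fun K |>.1 (by rwa [Finset.coe_image] at hm)
    refine ⟨fun i => if h : i ∈ Finset.range (k + 1) then f ⟨i, h⟩ else 0, ?_⟩
    rw [← hf, ← Finset.sum_coe_sort (Finset.range (k + 1))]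
    exact Finset.sum_congr rfl fun i _ => by simp
  let Q : ℕ → K[X] := fun i => Nat.rec (C (c 0) * X ^ q) (fun j w => w ^ q + C (c (j + 1)) * X ^ q) i
  have hQ' : ∀ i, derivative (Q i) = 0 := by
    intro i
    induction i with
    | zero => simp [Q, hqdef, derivative_pow_q p hν]
    | succ i _ => show derivative (Q i ^ q + _) = 0; simp [hqdef, derivative_pow_q p hν]
  have hQdeg : ∀ i, q ≤ (Q i).natDegree ∨ (Q i = 0 ∧ ∀ j ≤ i, c j = 0) := by
    intro i
    induction i with
    | zero =>
      rcases eq_or_ne (c 0) 0 with h | h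
      · exact Or.inr ⟨by simp [Q, h], fun j hj => by obtain rfl : j = 0 := by omega
                                                     exact h⟩
      · exact Or.inl (by simp [Q, natDegree_C_mul_X_pow, h])
    | succ i ih =>
      rcases ih with h | ⟨h0, hz⟩
      · left
        show q ≤ (Q i ^ q + C (c (i + 1)) * X ^ q).natDegree
        have h1 : (C (c (i + 1)) * X ^ q).natDegree < (Q i ^ q).natDegree := by
          rw [natDegree_pow]
          refine lt_of_le_of_lt (natDegree_C_mul_X_pow_le _ _) ?_
          nlinarith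
        rw [natDegree_add_eq_left_of_natDegree_lt h1, natDegree_pow]
        nlinarith
      · rcases eq_or_ne (c (i + 1)) 0 with h | h
        · refine Or.inr ⟨by show Q i ^ q + _ = 0; simp [h0, h, hq0], fun j hj => ?_⟩
          rcases eq_or_lt_of_le hj with rfl | hj
          · exact h
          · exact hz j (by omega)
        · left
          show q ≤ (Q i ^ q + C (c (i + 1)) * X ^ q).natDegree
          simp [h0, hq0, natDegree_C_mul_X_pow, h]
  have hdeg : q ≤ (Q k).natDegree := (hQdeg k).resolve_right fun h => by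
    have h0 : e (k + 1) = 0 := by
      rw [hc]; exact Finset.sum_eq_zero fun i hi => by rw [h.2 i (by simp at hi; omega), zero_smul]
    exact hv (hinj.iterate (k + 1) (by simpa [e, iterate_map_zero] using h0))
  have hev0 : ∀ i, (Q i).eval 0 = 0 := by
    intro i
    induction i with
    | zero => simp [Q, hq0]
    | succ i ih => show (Q i ^ q + _).eval 0 = 0; simp [ih, hq0]
  obtain ⟨g, hg⟩ : (X : K[X]) ∣ Q k - X := by
    rw [X_dvd_iff, coeff_zero_eq_eval_zero]; simp [hev0]
  have hgdeg : 0 < g.natDegree := by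
    have h1 : (Q k - X).natDegree = (Q k).natDegree :=
      natDegree_sub_eq_left_of_natDegree_lt (by rw [natDegree_X]; omega)
    have hg0 : g ≠ 0 := by
      rintro rfl
      rw [hg, mul_zero, natDegree_zero] at h1
      omega
    rw [hg, natDegree_X_mul hg0] at h1
    omega
  obtain ⟨z, hz⟩ := IsAlgClosed.exists_root g (natDegree_pos_iff_degree_pos.1 hgdeg).ne'
  have hz0 : z ≠ 0 := by
    rintro rfl
    have := congrArg (fun f => eval 0 (derivative f)) hg
    simp only [derivative_sub, hQ', derivative_X, derivative_mul, eval_add, eval_mul, eval_X, zero_mul, zero_sub,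
      eval_neg, eval_one, IsRoot.def.1 hz, mul_zero, add_zero] at this
    exact one_ne_zero (neg_eq_zero.1 this)
  let x : ℕ → K := fun i => (Q i).eval z
  have hxk : x k = z := by
    have := congrArg (eval z) hg
    rw [eval_mul, IsRoot.def.1 hz, mul_zero, eval_sub, eval_X, sub_eq_zero] at this
    exact this
  refine ⟨∑ i ∈ Finset.range (k + 1), x i • e i, ?_, ?_⟩
  · intro h0
    rw [Finset.sum_range_succ, add_eq_zero_iff_eq_neg'] at h0
    have hmem : x k • e k ∈ Submodule.span K (e '' Set.Iio k) := by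
      rw [h0]
      exact Submodule.neg_mem _ (Submodule.sum_mem _ fun i hi =>
        Submodule.smul_mem _ _ (Submodule.subset_span ⟨i, Finset.mem_range.1 hi, rfl⟩))
    exact hmin k (by omega) ((Submodule.smul_mem_iff _ (hxk ▸ hz0)).1 hmem)
  · rw [map_sum]
    simp only [hT, he]
    rw [Finset.sum_range_succ, hc, hxk, Finset.smul_sum]
    simp only [smul_smul]
    rw [Finset.sum_range_succ' (fun i => (z ^ q * c i) • e i), Finset.sum_range_succ' (fun i => x i • e i),
      ← add_assoc, ← Finset.sum_add_distrib]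
    congr 1
    · refine Finset.sum_congr rfl fun i _ => ?_
      rw [← add_smul]
      congr 1
      show _ = (Q i ^ q + C (c (i + 1)) * X ^ q).eval z
      simp only [x, eval_add, eval_pow, eval_mul, eval_C, eval_X]; ring
    · congr 1
      show _ = (C (c 0) * X ^ q).eval z
      simp only [eval_pow, eval_mul, eval_C, eval_X]; ring

/-- A bijective semilinear map: the fixed vectors span and are finite in number, and `T - 1` is onto. -/
theorem bijective_main (hν : 1 ≤ ν) (T : V →+ V) (hT : ∀ (r : K) (m : V), T (r • m) = r ^ p ^ ν • T m)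
    (hbij : Function.Bijective T) :
    Function.Surjective (fun m => T m - m) ∧ {m : V | T m = m}.Finite ∧
      Submodule.span K {m : V | T m = m} = ⊤ := by
  induction hn : Module.finrank K V using Nat.strong_induction_on generalizing V with
  | _ n ih =>
    rcases subsingleton_or_nontrivial V with hV | hV
    · exact ⟨fun y => ⟨y, Subsingleton.elim _ _⟩, Set.toFinite _,
        Submodule.eq_top_iff'.2 fun x => by rw [Subsingleton.elim x 0]; exact zero_mem _⟩
    obtain ⟨w, hw0, hw⟩ := exists_fixed p hν T hT hbij.1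
    let W : Submodule K V := K ∙ w
    have hW : ∀ u ∈ W, T u ∈ W := fun u hu => by
      obtain ⟨r, rfl⟩ := Submodule.mem_span_singleton.1 hu
      rw [hT, hw]; exact Submodule.smul_mem _ _ (Submodule.mem_span_singleton_self w)
    let T' : V ⧸ W →+ V ⧸ W := QuotientAddGroup.map W.toAddSubgroup W.toAddSubgroup T fun u hu => hW u hu
    have hT'mk : ∀ u, T' (W.mkQ u) = W.mkQ (T u) := fun u => rfl
    have hT' : ∀ (r : K) (m : V ⧸ W), T' (r • m) = r ^ p ^ ν • T' m := fun r m => by
      obtain ⟨u, rfl⟩ := W.mkQ_surjective m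
      rw [← map_smul, hT'mk, hT'mk, hT, map_smul]
    have hbij' : Function.Bijective T' := by
      refine ⟨(injective_iff_map_eq_zero T').2 fun m hm => ?_, fun m => ?_⟩
      · obtain ⟨u, rfl⟩ := W.mkQ_surjective m
        rw [hT'mk, Submodule.mkQ_apply, Submodule.Quotient.mk_eq_zero] at hm
        obtain ⟨a, ha⟩ := Submodule.mem_span_singleton.1 hm
        obtain ⟨b, hb⟩ := IsAlgClosed.exists_pow_nat_eq a (zero_lt_one.trans (one_lt_q p hν))
        rw [Submodule.mkQ_apply, Submodule.Quotient.mk_eq_zero]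
        refine Submodule.mem_span_singleton.2 ⟨b, hbij.1 ?_⟩
        rw [hT, hb, hw, ha]
      · obtain ⟨u, rfl⟩ := W.mkQ_surjective m
        obtain ⟨t, rfl⟩ := hbij.2 u
        exact ⟨W.mkQ t, hT'mk t⟩
    have hdim : Module.finrank K (V ⧸ W) + 1 = n := by
      rw [← hn, ← W.finrank_quotient_add_finrank, finrank_span_singleton hw0]
    obtain ⟨hsur, hfin, hspan⟩ := ih _ (by omega) T' hT' hbij' rfl
    have hlift : ∀ (y u : V), T' (W.mkQ u) - W.mkQ u = W.mkQ y → ∃ r : K, T (u + r • w) - (u + r • w) = y := by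
      intro y u hu
      rw [hT'mk, ← map_sub, Submodule.mkQ_apply, Submodule.mkQ_apply, Submodule.Quotient.eq] at hu
      obtain ⟨a, ha⟩ := Submodule.mem_span_singleton.1 hu
      obtain ⟨r, hr⟩ := exists_pow_sub_self p hν (-a : K)
      refine ⟨r, ?_⟩
      rw [map_add, hT, hw]
      have h1 : (r ^ p ^ ν - r + a) • w = 0 := by rw [hr, neg_add_cancel, zero_smul]
      rw [add_smul, sub_smul, ha] at h1
      rw [← sub_eq_zero]
      refine Eq.trans ?_ h1
      abel
    refine ⟨fun y => ?_, ?_, ?_⟩
    · obtain ⟨ub, hub⟩ := hsur (W.mkQ y)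
      obtain ⟨u, rfl⟩ := W.mkQ_surjective ub
      obtain ⟨r, hr⟩ := hlift y u hub
      exact ⟨_, hr⟩
    · refine Set.Finite.of_finite_fibers (fun m => W.mkQ m) (hfin.subset ?_) fun m' _ => ?_
      · rintro _ ⟨m, hm, rfl⟩
        show T' _ = _
        rw [hT'mk, show T m = m from hm]
      · by_cases h : ∃ m₀, T m₀ = m₀ ∧ W.mkQ m₀ = m'
        · obtain ⟨m₀, hm₀, rfl⟩ := h
          refine ((fixed_scalars_finite (K := K) p hν).image fun c => m₀ + c • w).subset ?_
          rintro m ⟨hm, hm'⟩
          simp only [Set.mem_preimage, Set.mem_singleton_iff, Submodule.mkQ_apply, Submodule.Quotient.eq] at hm'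
          obtain ⟨c, hc⟩ := Submodule.mem_span_singleton.1 hm'
          refine ⟨c, smul_left_injective K hw0 ?_, by show m₀ + c • w = m; rw [hc]; abel⟩
          show c ^ p ^ ν • w = c • w
          conv_lhs => rw [← hw, ← hT, hc, map_sub, show T m = m from hm, hm₀]
          exact hc.symm
        · refine Set.finite_empty.subset ?_
          rintro m ⟨hm, hm'⟩
          exact h ⟨m, hm, hm'⟩
    · set F := Submodule.span K {m : V | T m = m}
      have hWF : W ≤ F := (Submodule.span_singleton_le_iff_mem _ _).2 (Submodule.subset_span hw)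
      have hmap : Submodule.map W.mkQ F = ⊤ := by
        rw [eq_top_iff, ← hspan, Submodule.span_le]
        intro ub hub
        obtain ⟨u, rfl⟩ := W.mkQ_surjective ub
        obtain ⟨r, hr⟩ := hlift 0 u (by rw [map_zero, sub_eq_zero]; exact hub)
        refine ⟨u + r • w, Submodule.subset_span (sub_eq_zero.1 hr), ?_⟩
        rw [map_add, map_smul, show W.mkQ w = 0 from (Submodule.Quotient.mk_eq_zero W).2 (Submodule.mem_span_singleton_self w),
          smul_zero, add_zero]
      refine Submodule.eq_top_iff'.2 fun u => ?_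
      obtain ⟨f, hf, hfu⟩ := (hmap.ge Submodule.mem_top : W.mkQ u ∈ Submodule.map W.mkQ F)
      rw [Submodule.mkQ_apply, Submodule.mkQ_apply, Submodule.Quotient.eq] at hfu
      have := F.sub_mem hf (hWF hfu)
      simpa using this

/-- Semilinear maps for a power of Frobenius or its inverse. -/
theorem main {σ : K → K} (hν : 1 ≤ ν) (hσ : (∀ a, σ a = a ^ p ^ ν) ∨ ∀ a, σ a ^ p ^ ν = a) (T : V →+ V)
    (hT : ∀ (a : K) (v : V), T (a • v) = σ a • T v) :
    Function.Surjective (fun m => T m - m) ∧ {m : V | T m = m}.Finite ∧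
      (Submodule.span K {m : V | T m = m} : Set V) = ⋂ n : ℕ, Set.range (T^[n]) := by
  classical
  have hq := one_lt_q p hν
  have hinjq : ∀ a b : K, a ^ p ^ ν = b ^ p ^ ν → a = b := fun a b h => iterateFrobenius_inj K p ν (by
    simpa [iterateFrobenius_def] using h)
  have hσs : Function.Surjective σ := by
    intro a
    rcases hσ with h | h
    · obtain ⟨b, hb⟩ := IsAlgClosed.exists_pow_nat_eq a (zero_lt_one.trans hq)
      exact ⟨b, by rw [h, hb]⟩
    · exact ⟨a ^ p ^ ν, hinjq _ _ (h _)⟩
  have hσ0 : ∀ a, σ a = 0 → a = 0 := by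
    intro a ha
    rcases hσ with h | h
    · rw [h] at ha; exact eq_zero_of_pow_eq_zero ha
    · rw [← h a, ha, zero_pow (by omega)]
  obtain ⟨W, N, hWN, hWsub, hWbij⟩ := exists_stable hσs hσ0 T hT
  have hW : (W : Set V) = ⋂ n : ℕ, Set.range (T^[n]) :=
    Set.Subset.antisymm (Set.subset_iInter hWsub) ((Set.iInter_subset _ N).trans (hWN N le_rfl).ge)
  let R : W →+ W :=
    { toFun := fun x => ⟨T x, hWbij.mapsTo x.2⟩
      map_zero' := Subtype.ext (by simp)
      map_add' := fun a b => Subtype.ext (by simp) }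
  have hR : Function.Bijective R := by
    refine ⟨fun a b h => Subtype.ext (hWbij.injOn a.2 b.2 (congrArg Subtype.val h)), fun y => ?_⟩
    obtain ⟨x, hx, hxy⟩ := hWbij.surjOn y.2
    exact ⟨⟨x, hx⟩, Subtype.ext hxy⟩
  have hfixW : ∀ m : V, T m = m → m ∈ W := fun m hm => by
    show m ∈ (W : Set V)
    rw [hWN N le_rfl]
    exact ⟨m, (Function.iterate_fixed hm N)⟩
  have hmain : Function.Surjective (fun m : W => R m - m) ∧ {m : W | R m = m}.Finite ∧
      Submodule.span K {m : W | R m = m} = ⊤ := by
    rcases hσ with h | h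
    · exact bijective_main p hν R (fun r m => Subtype.ext (by simp [R, hT, h])) hR
    · let E := AddEquiv.ofBijective R hR
      obtain ⟨h1, h2, h3⟩ := bijective_main p hν E.symm.toAddMonoidHom (fun (r : K) (m : W) => by
        refine (AddEquiv.symm_apply_eq E).2 (Subtype.ext ?_)
        show r • (m : V) = T (r ^ p ^ ν • (E.symm m : V))
        rw [hT, hinjq (σ (r ^ p ^ ν)) r (h _), show T (E.symm m : V) = (E (E.symm m) : V) from rfl,
          AddEquiv.apply_symm_apply]) E.symm.bijective
      have heq : {m : W | R m = m} = {m : W | E.symm.toAddMonoidHom m = m} := by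
        ext m
        show R m = m ↔ E.symm m = m
        rw [AddEquiv.symm_apply_eq]
        exact eq_comm
      refine ⟨fun y => ?_, heq ▸ h2, heq ▸ h3⟩
      obtain ⟨u, hu⟩ := h1 (-y)
      refine ⟨E.symm u, ?_⟩
      show E (E.symm u) - E.symm u = y
      rw [AddEquiv.apply_symm_apply, ← neg_inj, neg_sub]
      exact hu
  obtain ⟨h1, h2, h3⟩ := hmain
  refine ⟨fun y => ?_, ?_, ?_⟩
  · obtain ⟨u, hu⟩ := h1 ⟨T^[N] y, (Set.ext_iff.1 (hWN N le_rfl) _).2 ⟨y, rfl⟩⟩
    refine ⟨(u : V) - ∑ i ∈ Finset.range N, T^[i] y, ?_⟩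
    have hu' : T (u : V) - u = T^[N] y := congrArg Subtype.val hu
    have hsum : T (∑ i ∈ Finset.range N, T^[i] y) - ∑ i ∈ Finset.range N, T^[i] y = T^[N] y - y := by
      rw [map_sum, ← Finset.sum_sub_distrib]
      simp only [← Function.iterate_succ_apply' T]
      exact Finset.sum_range_sub (fun i => T^[i] y) N
    simp only [map_sub]
    rw [sub_sub_sub_comm, hu', hsum, sub_sub_cancel]
  · exact (h2.image Subtype.val).subset fun m hm => ⟨⟨m, hfixW m hm⟩, Subtype.ext hm, rfl⟩
  · rw [← hW]
    refine congrArg _ (le_antisymm (Submodule.span_le.2 fun m hm => hfixW m hm) fun x hx => ?_)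
    have := Submodule.mem_map_of_mem (f := W.subtype) (h3.ge (Submodule.mem_top : (⟨x, hx⟩ : W) ∈ _))
    rw [Submodule.map_span] at this
    refine Submodule.span_mono ?_ this
    rintro _ ⟨m, hm, rfl⟩
    exact congrArg Subtype.val hm

end LangQLib
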