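import Groth.Agent.LangQLib.Field

/-! Semilinear maps of modules over a ring with nilpotent principal maximal ideal. -/

universe u v w

namespace LangQLib

variable {R : Type w} [CommRing R] {K : Type u} [Field K]

/-- Devissage to the residue field. -/
theorem mod_main (π : R →+* K) (hπ : Function.Surjective π) (c : R) (hker : RingHom.ker π = Ideal.span {c})
    (σ : R →+* R) (hσc : σ c = c) (f : K → K) (hcomp : ∀ a, π (σ a) = f (π a))
    (hfield : ∀ (V : Type v) [AddCommGroup V] [Module K V] [FiniteDimensional K V] (T : V →+ V),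
      (∀ (a : K) (x : V), T (a • x) = f a • T x) →
        Function.Surjective (fun m => T m - m) ∧ {m : V | T m = m}.Finite) :
    ∀ (n : ℕ) (M : Type v) [AddCommGroup M] [Module R M] [Module.Finite R M] (T : M →+ M),
      (∀ (a : R) (x : M), T (a • x) = σ a • T x) → (∀ x : M, c ^ n • x = 0) →
        Function.Surjective (fun m => T m - m) ∧ {m : M | T m = m}.Finite := by
  intro n
  induction n with
  | zero =>
    intro M _ _ _ T _ h0
    have : Subsingleton M := ⟨fun a b => by rw [← one_smul R a, ← one_smul R b, ← pow_zero c, h0, h0]⟩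
    exact ⟨fun y => ⟨y, Subsingleton.elim _ _⟩, Set.toFinite _⟩
  | succ n ih =>
    intro M _ _ _ T hT h0
    let L : M →ₗ[R] M := LinearMap.lsmul R M c
    let P : Submodule R M := LinearMap.range L
    have hL : ∀ x, L x = c • x := fun x => rfl
    have hTP : ∀ x ∈ P, T x ∈ P := by
      rintro _ ⟨x, rfl⟩
      exact ⟨T x, by rw [hL, hL, hT, hσc]⟩
    let TP : P →+ P :=
      { toFun := fun x => ⟨T x, hTP _ x.2⟩
        map_zero' := Subtype.ext (map_zero T)
        map_add' := fun a b => Subtype.ext (map_add T (a : M) (b : M)) }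
    have : Module.Finite R P := Module.Finite.range L
    obtain ⟨hs1, hf1⟩ := ih P TP (fun (a : R) (x : P) => Subtype.ext (hT a (x : M))) (fun x => by
      obtain ⟨y, hy⟩ := x.2
      refine Subtype.ext ?_
      rw [Submodule.coe_smul, ← hy, hL, smul_smul, ← pow_succ, h0, Submodule.coe_zero])
    have hann : ∀ a : R, π a = 0 → ∀ q : M ⧸ P, a • q = 0 := by
      intro a ha q
      obtain ⟨x, rfl⟩ := P.mkQ_surjective q
      obtain ⟨b, rfl⟩ := Ideal.mem_span_singleton'.1 (hker ▸ (RingHom.mem_ker.2 ha) : a ∈ Ideal.span {c})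
      rw [← map_smul, Submodule.mkQ_apply, Submodule.Quotient.mk_eq_zero]
      exact ⟨b • x, by rw [hL, smul_smul, mul_comm]⟩
    have hsur := Function.surjInv_eq hπ
    let s := Function.surjInv hπ
    have key : ∀ (a : R) (k : K), π a = k → ∀ q : M ⧸ P, a • q = s k • q := fun a k h q => by
      rw [← sub_eq_zero, ← sub_smul]
      exact hann _ (by rw [map_sub, h, hsur, sub_self]) q
    letI : SMul K (M ⧸ P) := ⟨fun k q => s k • q⟩
    have hdef : ∀ (k : K) (q : M ⧸ P), k • q = s k • q := fun _ _ => rfl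
    letI : Module K (M ⧸ P) :=
      { one_smul := fun q => by rw [hdef, ← key 1 1 (map_one π), one_smul]
        mul_smul := fun a b q => by
          rw [hdef, hdef, hdef, ← key (s a * s b) (a * b) (by rw [map_mul, hsur, hsur]), mul_smul]
        smul_zero := fun a => by rw [hdef, smul_zero]
        smul_add := fun a x y => by rw [hdef, hdef, hdef, smul_add]
        add_smul := fun a b q => by
          rw [hdef, hdef, hdef, ← key (s a + s b) (a + b) (by rw [map_add, hsur, hsur]), add_smul]
        zero_smul := fun q => by rw [hdef, ← key 0 0 (map_zero π), zero_smul] }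
    have hsmul : ∀ (a : R) (q : M ⧸ P), π a • q = a • q := fun a q => (key a (π a) rfl q).symm
    let TQ : M ⧸ P →+ M ⧸ P := QuotientAddGroup.map P.toAddSubgroup P.toAddSubgroup T fun x hx => hTP x hx
    have hTQmk : ∀ x, TQ (P.mkQ x) = P.mkQ (T x) := fun x => rfl
    have hTQ : ∀ (a : K) (q : M ⧸ P), TQ (a • q) = f a • TQ q := fun a q => by
      obtain ⟨x, rfl⟩ := P.mkQ_surjective q
      rw [hdef, ← map_smul, hTQmk, hT, map_smul, ← hsmul, hcomp, hsur, hTQmk]
    have : Module.Finite K (M ⧸ P) := by
      obtain ⟨S, hS⟩ := (Module.Finite.fg_top : (⊤ : Submodule R (M ⧸ P)).FG)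
      refine ⟨⟨S, Submodule.eq_top_iff'.2 fun q => ?_⟩⟩
      have hq : q ∈ Submodule.span R (S : Set (M ⧸ P)) := hS ▸ Submodule.mem_top
      induction hq using Submodule.span_induction with
      | mem x hx => exact Submodule.subset_span hx
      | zero => exact zero_mem _
      | add x y _ _ hx hy => exact add_mem hx hy
      | smul a x _ hx => rw [← hsmul]; exact Submodule.smul_mem _ _ hx
    obtain ⟨hs2, hf2⟩ := hfield (M ⧸ P) TQ hTQ
    refine ⟨fun y => ?_, ?_⟩
    · obtain ⟨q, hq⟩ := hs2 (P.mkQ y)
      obtain ⟨x, rfl⟩ := P.mkQ_surjective q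
      change TQ (P.mkQ x) - P.mkQ x = P.mkQ y at hq
      rw [hTQmk, ← map_sub, Submodule.mkQ_apply, Submodule.mkQ_apply, Submodule.Quotient.eq] at hq
      obtain ⟨z, hz⟩ := hs1 ⟨_, hq⟩
      refine ⟨x - z, ?_⟩
      have hz' : T (z : M) - z = T x - x - y := congrArg Subtype.val hz
      simp only [map_sub]
      rw [sub_sub_sub_comm, hz', sub_sub_cancel]
    · refine Set.Finite.of_finite_fibers (fun m => P.mkQ m) (hf2.subset ?_) fun q _ => ?_
      · rintro _ ⟨m, hm, rfl⟩
        show TQ _ = _
        rw [hTQmk, show T m = m from hm]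
      · by_cases h : ∃ m₀, T m₀ = m₀ ∧ P.mkQ m₀ = q
        · obtain ⟨m₀, hm₀, rfl⟩ := h
          refine (hf1.image fun z : P => m₀ + (z : M)).subset ?_
          rintro m ⟨hm, hm'⟩
          simp only [Set.mem_preimage, Set.mem_singleton_iff, Submodule.mkQ_apply, Submodule.Quotient.eq] at hm'
          refine ⟨⟨_, hm'⟩, Subtype.ext ?_, by show m₀ + (m - m₀) = m; abel⟩
          show T (m - m₀) = m - m₀
          rw [map_sub, show T m = m from hm, hm₀]
        · refine Set.finite_empty.subset ?_
          rintro m ⟨hm, hm'⟩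
          exact h ⟨m, hm, hm'⟩

end LangQLib
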